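import Cfsg.Prelude.Def_LieTwisted

/-!
Computed tables for the smallest Ree group acting on 28 lines of its 14-dimensional module and on nine
systems of blocks of these lines.
-/

set_option autoImplicit false

namespace Cfsg.Lib.Chev.Ree3

/-- codes of representatives of the lines -/
def lineCode : List ℕ := [9, 4251543, 3720099, 3206151, 2143275, 2674713, 3197403, 1603086, 1603083, 2670363, 2132367, 3188685, 3731061, 2661615, 1611861, 2127993, 3735435, 2134548, 2138949, 3188715, 2663832, 4262532, 1611885, 2130201, 2659458, 2666016, 4266906, 3188646]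

/-- codes of the negatives -/
def lineNeg : List ℕ := [18, 2125785, 2657229, 1603089, 4260297, 3728859, 1611837, 3206163, 3206166, 3726720, 4264725, 1594401, 2672592, 3722346, 3197469, 4255977, 2668218, 4269096, 4258134, 1594371, 3733260, 2141121, 3197445, 4253760, 3724512, 3737628, 2136747, 1594323]

/-- columns of the root element matrices: index 3 r + c, then column, then (row, coefficient) -/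
def colTab : List (List (List (ℕ × ℕ))) := [
  [[(0, 1)], [(1, 1)], [(2, 1)], [(3, 1)], [(4, 1)], [(5, 1)], [(6, 1)], [(7, 1)], [(8, 1)], [(9, 1)], [(10, 1)], [(11, 1)], [(12, 1)], [(13, 1)]],
  [[(0, 1)], [(1, 1), (2, 1)], [(2, 1)], [(3, 1)], [(4, 1)], [(5, 1)], [(6, 1)], [(7, 1)], [(3, 1), (8, 1)], [(9, 1)], [(4, 1), (10, 1)], [(5, 2), (11, 1)], [(7, 2), (12, 1)], [(0, 2), (1, 1), (2, 2), (13, 1)]],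
  [[(0, 1)], [(1, 1), (2, 2)], [(2, 1)], [(3, 1)], [(4, 1)], [(5, 1)], [(6, 1)], [(7, 1)], [(3, 2), (8, 1)], [(9, 1)], [(4, 2), (10, 1)], [(5, 1), (11, 1)], [(7, 1), (12, 1)], [(0, 1), (1, 2), (2, 2), (13, 1)]],
  [[(0, 1)], [(1, 1)], [(2, 1)], [(3, 1)], [(4, 1)], [(5, 1)], [(6, 1)], [(7, 1)], [(8, 1)], [(9, 1)], [(10, 1)], [(11, 1)], [(12, 1)], [(13, 1)]],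
  [[(0, 1)], [(1, 1), (3, 2)], [(2, 1)], [(3, 1)], [(4, 1)], [(5, 1)], [(6, 1)], [(2, 1), (7, 1)], [(8, 1)], [(4, 1), (9, 1)], [(10, 1)], [(6, 2), (11, 1)], [(0, 2), (1, 2), (3, 2), (12, 1)], [(8, 2), (13, 1)]],
  [[(0, 1)], [(1, 1), (3, 1)], [(2, 1)], [(3, 1)], [(4, 1)], [(5, 1)], [(6, 1)], [(2, 2), (7, 1)], [(8, 1)], [(4, 2), (9, 1)], [(10, 1)], [(6, 1), (11, 1)], [(0, 1), (1, 1), (3, 2), (12, 1)], [(8, 1), (13, 1)]],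
  [[(0, 1)], [(1, 1)], [(2, 1)], [(3, 1)], [(4, 1)], [(5, 1)], [(6, 1)], [(7, 1)], [(8, 1)], [(9, 1)], [(10, 1)], [(11, 1)], [(12, 1)], [(13, 1)]],
  [[(0, 1), (4, 1)], [(1, 1)], [(2, 1)], [(3, 1)], [(4, 1)], [(5, 1)], [(6, 1)], [(7, 1)], [(8, 1)], [(5, 1), (9, 1)], [(6, 2), (10, 1)], [(0, 1), (4, 2), (11, 1)], [(2, 1), (5, 1), (9, 2), (12, 1)], [(3, 2), (6, 2), (10, 2), (13, 1)]],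
  [[(0, 1), (4, 2)], [(1, 1)], [(2, 1)], [(3, 1)], [(4, 1)], [(5, 1)], [(6, 1)], [(7, 1)], [(8, 1)], [(5, 2), (9, 1)], [(6, 1), (10, 1)], [(0, 2), (4, 2), (11, 1)], [(2, 2), (5, 1), (9, 1), (12, 1)], [(3, 1), (6, 2), (10, 1), (13, 1)]],
  [[(0, 1)], [(1, 1)], [(2, 1)], [(3, 1)], [(4, 1)], [(5, 1)], [(6, 1)], [(7, 1)], [(8, 1)], [(9, 1)], [(10, 1)], [(11, 1)], [(12, 1)], [(13, 1)]],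
  [[(0, 1), (5, 2)], [(1, 1), (5, 1)], [(2, 1)], [(3, 1)], [(4, 1)], [(5, 1)], [(4, 1), (6, 1)], [(7, 1)], [(2, 1), (4, 2), (6, 1), (8, 1)], [(9, 1)], [(0, 2), (5, 2), (10, 1)], [(9, 2), (11, 1)], [(12, 1)], [(7, 2), (9, 1), (11, 1), (13, 1)]],
  [[(0, 1), (5, 1)], [(1, 1), (5, 2)], [(2, 1)], [(3, 1)], [(4, 1)], [(5, 1)], [(4, 2), (6, 1)], [(7, 1)], [(2, 2), (4, 2), (6, 2), (8, 1)], [(9, 1)], [(0, 1), (5, 2), (10, 1)], [(9, 1), (11, 1)], [(12, 1)], [(7, 1), (9, 1), (11, 2), (13, 1)]],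
  [[(0, 1)], [(1, 1)], [(2, 1)], [(3, 1)], [(4, 1)], [(5, 1)], [(6, 1)], [(7, 1)], [(8, 1)], [(9, 1)], [(10, 1)], [(11, 1)], [(12, 1)], [(13, 1)]],
  [[(0, 1), (6, 2)], [(1, 1), (6, 2)], [(2, 1)], [(3, 1)], [(4, 1)], [(4, 2), (5, 1)], [(6, 1)], [(3, 2), (4, 1), (5, 1), (7, 1)], [(8, 1)], [(0, 2), (6, 2), (9, 1)], [(10, 1)], [(10, 1), (11, 1)], [(8, 1), (10, 2), (11, 1), (12, 1)], [(13, 1)]],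
  [[(0, 1), (6, 1)], [(1, 1), (6, 1)], [(2, 1)], [(3, 1)], [(4, 1)], [(4, 1), (5, 1)], [(6, 1)], [(3, 1), (4, 1), (5, 2), (7, 1)], [(8, 1)], [(0, 1), (6, 2), (9, 1)], [(10, 1)], [(10, 2), (11, 1)], [(8, 2), (10, 2), (11, 2), (12, 1)], [(13, 1)]],
  [[(0, 1)], [(1, 1)], [(2, 1)], [(3, 1)], [(4, 1)], [(5, 1)], [(6, 1)], [(7, 1)], [(8, 1)], [(9, 1)], [(10, 1)], [(11, 1)], [(12, 1)], [(13, 1)]],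
  [[(0, 1)], [(1, 1), (7, 2)], [(2, 1)], [(2, 2), (3, 1)], [(4, 1)], [(5, 1)], [(5, 2), (6, 1)], [(7, 1)], [(1, 2), (7, 2), (8, 1)], [(9, 1)], [(9, 1), (10, 1)], [(11, 1)], [(12, 1)], [(12, 1), (13, 1)]],
  [[(0, 1)], [(1, 1), (7, 1)], [(2, 1)], [(2, 1), (3, 1)], [(4, 1)], [(5, 1)], [(5, 1), (6, 1)], [(7, 1)], [(1, 1), (7, 2), (8, 1)], [(9, 1)], [(9, 2), (10, 1)], [(11, 1)], [(12, 1)], [(12, 2), (13, 1)]],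
  [[(0, 1)], [(1, 1)], [(2, 1)], [(3, 1)], [(4, 1)], [(5, 1)], [(6, 1)], [(7, 1)], [(8, 1)], [(9, 1)], [(10, 1)], [(11, 1)], [(12, 1)], [(13, 1)]],
  [[(0, 1)], [(1, 1), (8, 1)], [(2, 1), (3, 2)], [(3, 1)], [(4, 1)], [(5, 1), (6, 2)], [(6, 1)], [(1, 1), (7, 1), (8, 2)], [(8, 1)], [(9, 1), (10, 1)], [(10, 1)], [(11, 1)], [(12, 1), (13, 1)], [(13, 1)]],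
  [[(0, 1)], [(1, 1), (8, 2)], [(2, 1), (3, 1)], [(3, 1)], [(4, 1)], [(5, 1), (6, 1)], [(6, 1)], [(1, 2), (7, 1), (8, 2)], [(8, 1)], [(9, 1), (10, 2)], [(10, 1)], [(11, 1)], [(12, 1), (13, 2)], [(13, 1)]],
  [[(0, 1)], [(1, 1)], [(2, 1)], [(3, 1)], [(4, 1)], [(5, 1)], [(6, 1)], [(7, 1)], [(8, 1)], [(9, 1)], [(10, 1)], [(11, 1)], [(12, 1)], [(13, 1)]],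
  [[(0, 1), (9, 1)], [(1, 1), (9, 1)], [(2, 1)], [(3, 1), (4, 2), (5, 2), (7, 2)], [(4, 1), (5, 2)], [(5, 1)], [(0, 1), (6, 1), (9, 2)], [(7, 1)], [(8, 1), (10, 2), (11, 1), (12, 1)], [(9, 1)], [(10, 1), (11, 1)], [(11, 1)], [(12, 1)], [(13, 1)]],
  [[(0, 1), (9, 2)], [(1, 1), (9, 2)], [(2, 1)], [(3, 1), (4, 1), (5, 2), (7, 1)], [(4, 1), (5, 1)], [(5, 1)], [(0, 2), (6, 1), (9, 2)], [(7, 1)], [(8, 1), (10, 1), (11, 1), (12, 2)], [(9, 1)], [(10, 1), (11, 2)], [(11, 1)], [(12, 1)], [(13, 1)]],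
  [[(0, 1)], [(1, 1)], [(2, 1)], [(3, 1)], [(4, 1)], [(5, 1)], [(6, 1)], [(7, 1)], [(8, 1)], [(9, 1)], [(10, 1)], [(11, 1)], [(12, 1)], [(13, 1)]],
  [[(0, 1), (10, 1)], [(1, 1), (10, 2)], [(2, 1), (4, 2), (6, 1), (8, 1)], [(3, 1)], [(4, 1), (6, 1)], [(0, 1), (5, 1), (10, 2)], [(6, 1)], [(7, 1), (9, 2), (11, 2), (13, 2)], [(8, 1)], [(9, 1), (11, 2)], [(10, 1)], [(11, 1)], [(12, 1)], [(13, 1)]],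
  [[(0, 1), (10, 2)], [(1, 1), (10, 1)], [(2, 1), (4, 1), (6, 1), (8, 2)], [(3, 1)], [(4, 1), (6, 2)], [(0, 2), (5, 1), (10, 2)], [(6, 1)], [(7, 1), (9, 1), (11, 2), (13, 1)], [(8, 1)], [(9, 1), (11, 1)], [(10, 1)], [(11, 1)], [(12, 1)], [(13, 1)]],
  [[(0, 1)], [(1, 1)], [(2, 1)], [(3, 1)], [(4, 1)], [(5, 1)], [(6, 1)], [(7, 1)], [(8, 1)], [(9, 1)], [(10, 1)], [(11, 1)], [(12, 1)], [(13, 1)]],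
  [[(0, 1), (11, 2)], [(1, 1)], [(2, 1), (5, 1), (9, 2), (12, 1)], [(3, 1), (6, 1), (10, 1), (13, 2)], [(0, 2), (4, 1), (11, 2)], [(5, 1), (9, 1)], [(6, 1), (10, 2)], [(7, 1)], [(8, 1)], [(9, 1)], [(10, 1)], [(11, 1)], [(12, 1)], [(13, 1)]],
  [[(0, 1), (11, 1)], [(1, 1)], [(2, 1), (5, 2), (9, 2), (12, 2)], [(3, 1), (6, 2), (10, 1), (13, 1)], [(0, 1), (4, 1), (11, 2)], [(5, 1), (9, 2)], [(6, 1), (10, 1)], [(7, 1)], [(8, 1)], [(9, 1)], [(10, 1)], [(11, 1)], [(12, 1)], [(13, 1)]],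
  [[(0, 1)], [(1, 1)], [(2, 1)], [(3, 1)], [(4, 1)], [(5, 1)], [(6, 1)], [(7, 1)], [(8, 1)], [(9, 1)], [(10, 1)], [(11, 1)], [(12, 1)], [(13, 1)]],
  [[(0, 1)], [(1, 1), (12, 1)], [(2, 1), (7, 1)], [(0, 1), (1, 1), (3, 1), (12, 2)], [(4, 1), (9, 1)], [(5, 1)], [(6, 1), (11, 2)], [(7, 1)], [(8, 1), (13, 2)], [(9, 1)], [(10, 1)], [(11, 1)], [(12, 1)], [(13, 1)]],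
  [[(0, 1)], [(1, 1), (12, 2)], [(2, 1), (7, 2)], [(0, 2), (1, 2), (3, 1), (12, 2)], [(4, 1), (9, 2)], [(5, 1)], [(6, 1), (11, 1)], [(7, 1)], [(8, 1), (13, 1)], [(9, 1)], [(10, 1)], [(11, 1)], [(12, 1)], [(13, 1)]],
  [[(0, 1)], [(1, 1)], [(2, 1)], [(3, 1)], [(4, 1)], [(5, 1)], [(6, 1)], [(7, 1)], [(8, 1)], [(9, 1)], [(10, 1)], [(11, 1)], [(12, 1)], [(13, 1)]],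
  [[(0, 1)], [(1, 1), (13, 2)], [(0, 1), (1, 2), (2, 1), (13, 2)], [(3, 1), (8, 1)], [(4, 1), (10, 1)], [(5, 1), (11, 2)], [(6, 1)], [(7, 1), (12, 2)], [(8, 1)], [(9, 1)], [(10, 1)], [(11, 1)], [(12, 1)], [(13, 1)]],
  [[(0, 1)], [(1, 1), (13, 1)], [(0, 2), (1, 1), (2, 1), (13, 2)], [(3, 1), (8, 2)], [(4, 1), (10, 2)], [(5, 1), (11, 1)], [(6, 1)], [(7, 1), (12, 1)], [(8, 1)], [(9, 1)], [(10, 1)], [(11, 1)], [(12, 1)], [(13, 1)]]]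

/-- nine partitions of the lines into seven blocks -/
def blockTab : List (List ℕ) := [
  [0, 1, 2, 2, 3, 4, 1, 5, 3, 6, 4, 4, 5, 5, 6, 0, 6, 0, 3, 5, 1, 0, 2, 1, 3, 2, 4, 6],
  [0, 0, 1, 2, 2, 1, 3, 3, 1, 4, 0, 5, 5, 2, 6, 6, 3, 4, 0, 4, 5, 2, 5, 6, 3, 6, 4, 1],
  [0, 1, 1, 0, 2, 2, 0, 3, 3, 4, 5, 1, 6, 4, 2, 5, 6, 3, 4, 1, 5, 6, 2, 4, 5, 3, 6, 0],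
  [0, 1, 2, 1, 3, 4, 2, 4, 5, 4, 2, 5, 0, 2, 1, 4, 3, 1, 6, 3, 3, 5, 6, 5, 0, 0, 6, 6],
  [0, 1, 2, 3, 4, 1, 5, 3, 0, 4, 4, 6, 5, 6, 5, 6, 2, 2, 5, 0, 3, 1, 0, 2, 1, 4, 3, 6],
  [0, 1, 2, 3, 4, 0, 4, 5, 1, 1, 5, 4, 1, 0, 2, 3, 0, 4, 3, 3, 6, 6, 5, 5, 2, 6, 2, 6],
  [0, 1, 2, 3, 2, 4, 5, 0, 3, 5, 3, 0, 2, 1, 0, 2, 3, 4, 4, 6, 4, 5, 5, 6, 6, 1, 1, 6],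
  [0, 1, 0, 2, 1, 2, 3, 1, 3, 0, 4, 5, 2, 6, 4, 3, 5, 6, 5, 4, 0, 4, 6, 2, 6, 5, 3, 1],
  [0, 1, 2, 3, 0, 4, 4, 2, 5, 3, 6, 3, 6, 5, 5, 1, 1, 6, 2, 4, 5, 2, 1, 0, 3, 4, 0, 6]]

/-- permutations of the lines by the generators -/
def lineTab : List (List ℕ) := [
  [0, 1, 2, 3, 4, 5, 6, 7, 8, 9, 10, 11, 12, 13, 14, 15, 16, 17, 18, 19, 20, 21, 22, 23, 24, 25, 26, 27],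
  [0, 23, 24, 7, 21, 9, 14, 8, 3, 12, 26, 19, 5, 2, 22, 1, 20, 10, 4, 27, 25, 18, 6, 15, 13, 16, 17, 11],
  [0, 15, 13, 8, 18, 12, 22, 3, 7, 5, 17, 27, 9, 24, 6, 23, 25, 26, 21, 11, 16, 4, 14, 1, 2, 20, 10, 19],
  [0, 4, 5, 27, 17, 25, 3, 11, 19, 16, 23, 14, 20, 12, 7, 18, 24, 1, 26, 22, 13, 10, 8, 21, 9, 2, 15, 6],
  [0, 21, 9, 11, 10, 16, 7, 19, 27, 20, 15, 22, 25, 5, 8, 4, 13, 23, 17, 6, 2, 26, 3, 18, 12, 24, 1, 14],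
  [0, 18, 12, 19, 26, 20, 8, 27, 11, 25, 1, 6, 16, 9, 3, 21, 2, 15, 10, 14, 24, 17, 7, 4, 5, 13, 23, 22],
  [0, 17, 25, 6, 1, 2, 27, 14, 22, 24, 21, 7, 13, 20, 11, 26, 9, 4, 15, 8, 12, 23, 19, 10, 16, 5, 18, 3],
  [0, 10, 16, 14, 23, 24, 11, 22, 6, 13, 18, 8, 2, 25, 19, 17, 12, 21, 1, 3, 5, 15, 27, 26, 20, 9, 4, 7],
  [0, 26, 20, 22, 15, 13, 19, 6, 14, 2, 4, 3, 24, 16, 27, 10, 5, 18, 23, 7, 9, 1, 11, 17, 25, 12, 21, 8],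
  [0, 16, 22, 26, 2, 7, 4, 17, 10, 8, 5, 15, 3, 14, 21, 25, 11, 12, 13, 1, 19, 24, 18, 20, 6, 27, 9, 23],
  [0, 20, 6, 17, 24, 8, 21, 10, 26, 3, 9, 1, 7, 22, 18, 16, 19, 5, 2, 23, 27, 13, 4, 25, 14, 11, 12, 15],
  [0, 25, 14, 10, 13, 3, 18, 26, 17, 7, 12, 23, 8, 6, 4, 20, 27, 9, 24, 15, 11, 2, 21, 16, 22, 19, 5, 1],
  [0, 24, 8, 15, 5, 11, 17, 1, 23, 19, 25, 18, 27, 7, 10, 2, 14, 20, 12, 4, 22, 9, 26, 13, 3, 6, 16, 21],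
  [0, 13, 3, 1, 9, 19, 10, 23, 15, 27, 16, 4, 11, 8, 26, 24, 22, 25, 5, 21, 6, 12, 17, 2, 7, 14, 20, 18],
  [0, 2, 7, 23, 12, 27, 26, 15, 1, 11, 20, 21, 19, 3, 17, 13, 6, 16, 9, 18, 14, 5, 10, 24, 8, 22, 25, 4],
  [0, 9, 19, 18, 25, 14, 1, 4, 21, 22, 2, 26, 6, 11, 23, 5, 7, 13, 20, 17, 8, 16, 15, 12, 27, 3, 24, 10],
  [0, 12, 27, 4, 16, 22, 23, 21, 18, 6, 24, 17, 14, 19, 15, 9, 8, 2, 25, 10, 3, 20, 1, 5, 11, 7, 13, 26],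
  [0, 5, 11, 21, 20, 6, 15, 18, 4, 14, 13, 10, 22, 27, 1, 12, 3, 24, 16, 26, 7, 25, 23, 9, 19, 8, 2, 17],
  [0, 14, 26, 16, 8, 1, 5, 20, 25, 23, 11, 2, 15, 10, 9, 6, 18, 27, 7, 24, 4, 3, 12, 22, 17, 21, 19, 13],
  [0, 22, 17, 20, 3, 23, 9, 25, 16, 15, 19, 24, 1, 26, 12, 14, 4, 11, 8, 13, 21, 7, 5, 6, 10, 18, 27, 2],
  [0, 6, 10, 25, 7, 15, 12, 16, 20, 1, 27, 13, 23, 17, 5, 22, 21, 19, 3, 2, 18, 8, 9, 14, 26, 4, 11, 24],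
  [0, 7, 15, 24, 19, 4, 25, 13, 2, 21, 14, 5, 18, 23, 16, 3, 26, 6, 11, 9, 17, 27, 20, 8, 1, 10, 22, 12],
  [0, 8, 1, 13, 27, 21, 16, 2, 24, 18, 22, 9, 4, 15, 20, 7, 17, 14, 19, 12, 10, 11, 25, 3, 23, 26, 6, 5],
  [0, 3, 23, 2, 11, 18, 20, 24, 13, 4, 6, 12, 21, 1, 25, 8, 10, 22, 27, 5, 26, 19, 16, 7, 15, 17, 14, 9],
  [0, 11, 18, 9, 22, 17, 2, 12, 5, 10, 7, 25, 26, 21, 24, 27, 15, 3, 14, 16, 1, 6, 13, 19, 4, 23, 8, 20],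
  [0, 19, 4, 12, 6, 10, 24, 5, 9, 26, 8, 16, 17, 18, 13, 11, 1, 7, 22, 20, 23, 14, 2, 27, 21, 15, 3, 25],
  [0, 27, 21, 5, 14, 26, 13, 9, 12, 17, 3, 20, 10, 4, 2, 19, 23, 8, 6, 25, 15, 22, 24, 11, 18, 1, 7, 16],
  [0, 1, 2, 3, 4, 5, 6, 7, 8, 9, 10, 11, 12, 13, 14, 15, 16, 17, 18, 19, 20, 21, 22, 23, 24, 25, 26, 27],
  [1, 2, 0, 4, 5, 3, 7, 8, 6, 10, 11, 9, 13, 14, 12, 16, 17, 15, 19, 20, 18, 22, 23, 21, 25, 26, 24, 27],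
  [2, 0, 1, 5, 3, 4, 8, 6, 7, 11, 9, 10, 14, 12, 13, 17, 15, 16, 20, 18, 19, 23, 21, 22, 26, 24, 25, 27],
  [3, 4, 5, 6, 7, 8, 0, 1, 2, 12, 13, 14, 15, 16, 17, 9, 10, 11, 21, 22, 23, 24, 25, 26, 18, 19, 20, 27],
  [4, 5, 3, 7, 8, 6, 1, 2, 0, 13, 14, 12, 16, 17, 15, 10, 11, 9, 22, 23, 21, 25, 26, 24, 19, 20, 18, 27],
  [5, 3, 4, 8, 6, 7, 2, 0, 1, 14, 12, 13, 17, 15, 16, 11, 9, 10, 23, 21, 22, 26, 24, 25, 20, 18, 19, 27],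
  [6, 7, 8, 0, 1, 2, 3, 4, 5, 15, 16, 17, 9, 10, 11, 12, 13, 14, 24, 25, 26, 18, 19, 20, 21, 22, 23, 27],
  [7, 8, 6, 1, 2, 0, 4, 5, 3, 16, 17, 15, 10, 11, 9, 13, 14, 12, 25, 26, 24, 19, 20, 18, 22, 23, 21, 27],
  [8, 6, 7, 2, 0, 1, 5, 3, 4, 17, 15, 16, 11, 9, 10, 14, 12, 13, 26, 24, 25, 20, 18, 19, 23, 21, 22, 27],
  [9, 10, 11, 14, 12, 13, 16, 17, 15, 24, 25, 26, 20, 18, 19, 22, 23, 21, 4, 5, 3, 6, 7, 8, 2, 0, 1, 27],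
  [10, 11, 9, 12, 13, 14, 17, 15, 16, 25, 26, 24, 18, 19, 20, 23, 21, 22, 5, 3, 4, 7, 8, 6, 0, 1, 2, 27],
  [11, 9, 10, 13, 14, 12, 15, 16, 17, 26, 24, 25, 19, 20, 18, 21, 22, 23, 3, 4, 5, 8, 6, 7, 1, 2, 0, 27],
  [12, 13, 14, 17, 15, 16, 10, 11, 9, 18, 19, 20, 23, 21, 22, 25, 26, 24, 7, 8, 6, 0, 1, 2, 5, 3, 4, 27],
  [13, 14, 12, 15, 16, 17, 11, 9, 10, 19, 20, 18, 21, 22, 23, 26, 24, 25, 8, 6, 7, 1, 2, 0, 3, 4, 5, 27],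
  [14, 12, 13, 16, 17, 15, 9, 10, 11, 20, 18, 19, 22, 23, 21, 24, 25, 26, 6, 7, 8, 2, 0, 1, 4, 5, 3, 27],
  [15, 16, 17, 11, 9, 10, 13, 14, 12, 21, 22, 23, 26, 24, 25, 19, 20, 18, 1, 2, 0, 3, 4, 5, 8, 6, 7, 27],
  [16, 17, 15, 9, 10, 11, 14, 12, 13, 22, 23, 21, 24, 25, 26, 20, 18, 19, 2, 0, 1, 4, 5, 3, 6, 7, 8, 27],
  [17, 15, 16, 10, 11, 9, 12, 13, 14, 23, 21, 22, 25, 26, 24, 18, 19, 20, 0, 1, 2, 5, 3, 4, 7, 8, 6, 27],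
  [18, 19, 20, 22, 23, 21, 26, 24, 25, 5, 3, 4, 6, 7, 8, 1, 2, 0, 15, 16, 17, 10, 11, 9, 14, 12, 13, 27],
  [19, 20, 18, 23, 21, 22, 24, 25, 26, 3, 4, 5, 7, 8, 6, 2, 0, 1, 16, 17, 15, 11, 9, 10, 12, 13, 14, 27],
  [20, 18, 19, 21, 22, 23, 25, 26, 24, 4, 5, 3, 8, 6, 7, 0, 1, 2, 17, 15, 16, 9, 10, 11, 13, 14, 12, 27],
  [21, 22, 23, 25, 26, 24, 20, 18, 19, 8, 6, 7, 0, 1, 2, 4, 5, 3, 9, 10, 11, 13, 14, 12, 17, 15, 16, 27],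
  [22, 23, 21, 26, 24, 25, 18, 19, 20, 6, 7, 8, 1, 2, 0, 5, 3, 4, 10, 11, 9, 14, 12, 13, 15, 16, 17, 27],
  [23, 21, 22, 24, 25, 26, 19, 20, 18, 7, 8, 6, 2, 0, 1, 3, 4, 5, 11, 9, 10, 12, 13, 14, 16, 17, 15, 27],
  [24, 25, 26, 19, 20, 18, 23, 21, 22, 2, 0, 1, 3, 4, 5, 7, 8, 6, 12, 13, 14, 16, 17, 15, 11, 9, 10, 27],
  [25, 26, 24, 20, 18, 19, 21, 22, 23, 0, 1, 2, 4, 5, 3, 8, 6, 7, 13, 14, 12, 17, 15, 16, 9, 10, 11, 27],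
  [26, 24, 25, 18, 19, 20, 22, 23, 21, 1, 2, 0, 5, 3, 4, 6, 7, 8, 14, 12, 13, 15, 16, 17, 10, 11, 9, 27]]

/-- permutations of the partitions by the generators -/
def partTab : List (List ℕ) := [
  [0, 1, 2, 3, 4, 5, 6, 7, 8],
  [1, 8, 6, 5, 2, 7, 4, 3, 0],
  [8, 0, 4, 7, 6, 3, 2, 5, 1],
  [1, 8, 2, 7, 4, 3, 6, 5, 0],
  [8, 0, 6, 3, 2, 5, 4, 7, 1],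
  [0, 1, 4, 5, 6, 7, 2, 3, 8],
  [8, 0, 2, 5, 4, 7, 6, 3, 1],
  [0, 1, 6, 7, 2, 3, 4, 5, 8],
  [1, 8, 4, 3, 6, 5, 2, 7, 0],
  [3, 5, 8, 2, 1, 6, 0, 4, 7],
  [5, 7, 0, 6, 8, 4, 1, 2, 3],
  [7, 3, 1, 4, 0, 2, 8, 6, 5],
  [7, 3, 0, 2, 8, 6, 1, 4, 5],
  [3, 5, 1, 6, 0, 4, 8, 2, 7],
  [5, 7, 8, 4, 1, 2, 0, 6, 3],
  [5, 7, 1, 2, 0, 6, 8, 4, 3],
  [7, 3, 8, 6, 1, 4, 0, 2, 5],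
  [3, 5, 0, 4, 8, 2, 1, 6, 7],
  [2, 6, 5, 0, 3, 1, 7, 8, 4],
  [6, 4, 7, 1, 5, 8, 3, 0, 2],
  [4, 2, 3, 8, 7, 0, 5, 1, 6],
  [2, 6, 3, 1, 7, 8, 5, 0, 4],
  [6, 4, 5, 8, 3, 0, 7, 1, 2],
  [4, 2, 7, 0, 5, 1, 3, 8, 6],
  [2, 6, 7, 8, 5, 0, 3, 1, 4],
  [6, 4, 3, 0, 7, 1, 5, 8, 2],
  [4, 2, 5, 1, 3, 8, 7, 0, 6],
  [0, 1, 2, 3, 4, 5, 6, 7, 8],
  [8, 2, 7, 6, 0, 3, 5, 1, 4],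
  [4, 7, 1, 5, 8, 6, 3, 2, 0],
  [8, 1, 2, 5, 0, 6, 3, 7, 4],
  [4, 2, 7, 3, 8, 5, 6, 1, 0],
  [0, 7, 1, 6, 4, 3, 5, 2, 8],
  [4, 1, 2, 6, 8, 3, 5, 7, 0],
  [0, 2, 7, 5, 4, 6, 3, 1, 8],
  [8, 7, 1, 3, 0, 5, 6, 2, 4],
  [6, 4, 0, 7, 3, 2, 1, 8, 5],
  [5, 0, 8, 1, 6, 7, 2, 4, 3],
  [3, 8, 4, 2, 5, 1, 7, 0, 6],
  [3, 0, 8, 7, 5, 2, 1, 4, 6],
  [6, 8, 4, 1, 3, 7, 2, 0, 5],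
  [5, 4, 0, 2, 6, 1, 7, 8, 3],
  [5, 8, 4, 7, 6, 2, 1, 0, 3],
  [3, 4, 0, 1, 5, 7, 2, 8, 6],
  [6, 0, 8, 2, 3, 1, 7, 4, 5],
  [1, 5, 3, 4, 7, 8, 0, 6, 2],
  [2, 3, 6, 0, 1, 4, 8, 5, 7],
  [7, 6, 5, 8, 2, 0, 4, 3, 1],
  [1, 6, 5, 0, 7, 4, 8, 3, 2],
  [2, 5, 3, 8, 1, 0, 4, 6, 7],
  [7, 3, 6, 4, 2, 8, 0, 5, 1],
  [1, 3, 6, 8, 7, 0, 4, 5, 2],
  [2, 6, 5, 4, 1, 8, 0, 3, 7],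
  [7, 5, 3, 0, 2, 4, 8, 6, 1]]

/-- block maps -/
def betaTab : List (List ℕ) := [
  [0, 1, 2, 3, 4, 5, 6, 0, 1, 2, 3, 4, 5, 6, 0, 1, 2, 3, 4, 5, 6, 0, 1, 2, 3, 4, 5, 6, 0, 1, 2, 3, 4, 5, 6, 0, 1, 2, 3, 4, 5, 6, 0, 1, 2, 3, 4, 5, 6, 0, 1, 2, 3, 4, 5, 6, 0, 1, 2, 3, 4, 5, 6],
  [0, 6, 3, 2, 4, 1, 5, 0, 3, 2, 5, 6, 4, 1, 0, 6, 5, 3, 2, 1, 4, 0, 5, 2, 6, 1, 3, 4, 0, 4, 5, 3, 6, 2, 1, 0, 2, 6, 1, 4, 3, 5, 0, 2, 1, 3, 4, 5, 6, 0, 5, 4, 1, 6, 3, 2, 0, 1, 3, 5, 6, 2, 4],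
  [0, 1, 5, 2, 6, 3, 4, 0, 5, 3, 2, 4, 6, 1, 0, 6, 5, 3, 1, 2, 4, 0, 3, 6, 5, 2, 1, 4, 0, 2, 1, 3, 4, 5, 6, 0, 4, 2, 5, 6, 1, 3, 0, 5, 4, 3, 6, 2, 1, 0, 3, 1, 5, 4, 6, 2, 0, 6, 2, 1, 5, 3, 4],
  [0, 2, 1, 4, 6, 5, 3, 0, 4, 6, 3, 1, 5, 2, 0, 2, 3, 1, 6, 4, 5, 0, 1, 2, 6, 5, 4, 3, 0, 4, 1, 6, 2, 3, 5, 0, 3, 4, 6, 1, 5, 2, 0, 2, 4, 6, 1, 3, 5, 0, 4, 6, 3, 5, 2, 1, 0, 3, 4, 6, 2, 5, 1],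
  [0, 2, 3, 6, 1, 4, 5, 0, 6, 4, 5, 1, 2, 3, 0, 5, 3, 6, 4, 2, 1, 0, 5, 4, 2, 3, 6, 1, 0, 6, 4, 1, 5, 3, 2, 0, 6, 1, 4, 5, 3, 2, 0, 1, 4, 6, 2, 3, 5, 0, 4, 5, 1, 3, 6, 2, 0, 2, 4, 5, 3, 1, 6],
  [0, 3, 5, 4, 1, 6, 2, 0, 5, 4, 1, 6, 3, 2, 0, 5, 3, 6, 4, 1, 2, 0, 3, 1, 2, 6, 4, 5, 0, 4, 2, 6, 1, 3, 5, 0, 5, 2, 4, 3, 1, 6, 0, 4, 6, 1, 5, 3, 2, 0, 6, 3, 5, 1, 2, 4, 0, 2, 6, 4, 5, 3, 1],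
  [0, 6, 4, 1, 2, 5, 3, 0, 2, 1, 6, 3, 5, 4, 0, 3, 1, 2, 5, 6, 4, 0, 4, 6, 1, 2, 5, 3, 0, 2, 4, 5, 1, 6, 3, 0, 6, 5, 3, 1, 4, 2, 0, 4, 1, 5, 2, 6, 3, 0, 1, 2, 6, 5, 4, 3, 0, 4, 6, 3, 1, 5, 2],
  [0, 4, 6, 1, 3, 2, 5, 0, 3, 6, 5, 2, 1, 4, 0, 3, 6, 5, 1, 4, 2, 0, 4, 5, 2, 6, 3, 1, 0, 5, 6, 2, 4, 1, 3, 0, 2, 3, 1, 5, 6, 4, 0, 4, 2, 5, 1, 6, 3, 0, 5, 2, 4, 3, 1, 6, 0, 6, 1, 5, 3, 4, 2],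
  [0, 4, 5, 6, 2, 3, 1, 0, 5, 1, 4, 2, 3, 6, 0, 3, 6, 5, 2, 4, 1, 0, 6, 3, 4, 2, 1, 5, 0, 1, 4, 5, 2, 6, 3, 0, 2, 6, 5, 3, 4, 1, 0, 6, 5, 2, 4, 1, 3, 0, 3, 6, 4, 1, 2, 5, 0, 4, 1, 2, 5, 6, 3],
  [0, 3, 6, 2, 4, 1, 5, 0, 5, 2, 4, 1, 3, 6, 0, 1, 2, 6, 5, 4, 3, 0, 6, 2, 1, 3, 5, 4, 0, 3, 5, 4, 1, 2, 6, 0, 3, 5, 1, 2, 4, 6, 0, 6, 2, 4, 5, 3, 1, 0, 2, 3, 4, 1, 6, 5, 0, 5, 6, 3, 1, 4, 2],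
  [0, 6, 4, 2, 1, 5, 3, 0, 3, 6, 4, 2, 1, 5, 0, 1, 3, 4, 2, 6, 5, 0, 4, 5, 6, 3, 1, 2, 0, 5, 4, 6, 3, 2, 1, 0, 3, 5, 2, 1, 4, 6, 0, 5, 3, 4, 1, 2, 6, 0, 5, 3, 6, 4, 1, 2, 0, 3, 2, 1, 5, 6, 4],
  [0, 5, 4, 6, 2, 3, 1, 0, 1, 2, 6, 4, 5, 3, 0, 6, 2, 4, 3, 5, 1, 0, 4, 5, 6, 3, 2, 1, 0, 2, 6, 4, 5, 3, 1, 0, 3, 2, 5, 4, 6, 1, 0, 4, 5, 6, 3, 2, 1, 0, 1, 3, 4, 2, 6, 5, 0, 6, 2, 5, 3, 4, 1],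
  [0, 6, 3, 2, 5, 1, 4, 0, 5, 4, 1, 3, 6, 2, 0, 3, 4, 1, 5, 2, 6, 0, 5, 3, 2, 1, 4, 6, 0, 3, 5, 1, 4, 6, 2, 0, 6, 3, 2, 4, 1, 5, 0, 3, 1, 6, 5, 4, 2, 0, 1, 6, 2, 4, 5, 3, 0, 2, 1, 3, 4, 5, 6],
  [0, 2, 1, 4, 3, 5, 6, 0, 3, 1, 5, 6, 4, 2, 0, 2, 4, 6, 1, 3, 5, 0, 1, 3, 5, 6, 2, 4, 0, 5, 2, 1, 6, 4, 3, 0, 6, 3, 1, 4, 2, 5, 0, 5, 3, 1, 4, 6, 2, 0, 4, 1, 5, 6, 2, 3, 0, 6, 2, 1, 4, 3, 5],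
  [0, 2, 5, 1, 6, 3, 4, 0, 1, 2, 3, 5, 4, 6, 0, 2, 6, 1, 3, 5, 4, 0, 2, 3, 5, 6, 1, 4, 0, 1, 3, 6, 5, 4, 2, 0, 1, 3, 4, 6, 5, 2, 0, 2, 5, 1, 6, 4, 3, 0, 2, 6, 1, 4, 5, 3, 0, 2, 4, 5, 6, 1, 3],
  [0, 1, 3, 6, 2, 4, 5, 0, 4, 5, 1, 6, 3, 2, 0, 4, 6, 2, 5, 1, 3, 0, 4, 1, 3, 2, 6, 5, 0, 6, 5, 3, 2, 1, 4, 0, 5, 6, 4, 1, 2, 3, 0, 3, 4, 2, 5, 1, 6, 0, 4, 5, 1, 2, 3, 6, 0, 4, 3, 6, 1, 5, 2],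
  [0, 2, 1, 5, 6, 4, 3, 0, 6, 3, 5, 2, 1, 4, 0, 6, 1, 2, 4, 3, 5, 0, 2, 6, 3, 5, 4, 1, 0, 5, 1, 2, 3, 6, 4, 0, 5, 6, 4, 2, 1, 3, 0, 5, 6, 3, 2, 1, 4, 0, 6, 2, 4, 5, 3, 1, 0, 1, 6, 4, 5, 3, 2],
  [0, 4, 5, 3, 2, 6, 1, 0, 4, 6, 3, 2, 5, 1, 0, 4, 1, 3, 6, 5, 2, 0, 1, 6, 3, 5, 4, 2, 0, 4, 3, 2, 5, 1, 6, 0, 2, 1, 6, 5, 4, 3, 0, 1, 5, 2, 3, 6, 4, 0, 4, 5, 2, 1, 3, 6, 0, 2, 5, 4, 3, 1, 6],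
  [0, 2, 6, 3, 1, 5, 4, 0, 1, 3, 4, 6, 2, 5, 0, 2, 1, 6, 5, 4, 3, 0, 6, 4, 3, 1, 2, 5, 0, 1, 6, 3, 5, 4, 2, 0, 6, 4, 3, 1, 5, 2, 0, 4, 3, 5, 1, 2, 6, 0, 5, 1, 4, 3, 2, 6, 0, 5, 3, 2, 1, 4, 6],
  [0, 5, 4, 3, 6, 1, 2, 0, 2, 3, 4, 6, 1, 5, 0, 6, 2, 5, 3, 4, 1, 0, 5, 4, 2, 6, 3, 1, 0, 5, 4, 6, 3, 1, 2, 0, 1, 6, 5, 3, 4, 2, 0, 6, 1, 3, 5, 4, 2, 0, 2, 1, 6, 5, 3, 4, 0, 2, 3, 5, 4, 6, 1],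
  [0, 5, 4, 3, 6, 2, 1, 0, 5, 3, 6, 1, 4, 2, 0, 2, 4, 3, 1, 6, 5, 0, 4, 6, 2, 1, 5, 3, 0, 3, 4, 5, 1, 2, 6, 0, 1, 4, 2, 5, 6, 3, 0, 4, 5, 6, 3, 1, 2, 0, 3, 6, 5, 1, 2, 4, 0, 5, 3, 1, 2, 4, 6],
  [0, 3, 5, 1, 2, 4, 6, 0, 2, 6, 1, 5, 4, 3, 0, 4, 3, 2, 5, 1, 6, 0, 3, 6, 4, 2, 1, 5, 0, 1, 3, 6, 4, 5, 2, 0, 2, 1, 3, 4, 5, 6, 0, 5, 3, 2, 4, 6, 1, 0, 5, 3, 2, 6, 4, 1, 0, 3, 6, 1, 4, 2, 5],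
  [0, 3, 1, 6, 5, 2, 4, 0, 1, 6, 2, 5, 4, 3, 0, 1, 6, 2, 3, 5, 4, 0, 5, 1, 6, 2, 3, 4, 0, 5, 1, 2, 6, 3, 4, 0, 3, 1, 5, 6, 2, 4, 0, 3, 1, 6, 4, 5, 2, 0, 1, 2, 3, 5, 4, 6, 0, 3, 1, 4, 6, 5, 2],
  [0, 3, 2, 6, 5, 1, 4, 0, 4, 1, 5, 2, 6, 3, 0, 2, 5, 6, 1, 3, 4, 0, 2, 1, 4, 3, 5, 6, 0, 3, 5, 2, 4, 6, 1, 0, 2, 6, 1, 5, 3, 4, 0, 1, 5, 2, 6, 3, 4, 0, 3, 2, 5, 4, 6, 1, 0, 3, 6, 2, 4, 1, 5],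
  [0, 1, 4, 2, 3, 6, 5, 0, 4, 5, 2, 3, 1, 6, 0, 5, 6, 2, 4, 1, 3, 0, 3, 2, 1, 6, 4, 5, 0, 4, 3, 1, 5, 2, 6, 0, 4, 3, 6, 2, 5, 1, 0, 5, 6, 4, 1, 2, 3, 0, 5, 4, 1, 3, 6, 2, 0, 6, 5, 4, 2, 1, 3],
  [0, 6, 2, 5, 3, 4, 1, 0, 4, 5, 1, 3, 2, 6, 0, 3, 2, 4, 6, 5, 1, 0, 5, 3, 1, 4, 6, 2, 0, 4, 1, 2, 3, 6, 5, 0, 4, 2, 5, 3, 1, 6, 0, 3, 4, 1, 5, 2, 6, 0, 4, 6, 3, 5, 1, 2, 0, 1, 2, 6, 5, 4, 3],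
  [0, 6, 1, 5, 3, 4, 2, 0, 6, 2, 4, 3, 5, 1, 0, 6, 2, 1, 4, 3, 5, 0, 1, 2, 6, 4, 5, 3, 0, 6, 5, 4, 1, 2, 3, 0, 6, 2, 4, 5, 3, 1, 0, 1, 4, 2, 3, 6, 5, 0, 6, 4, 5, 2, 1, 3, 0, 6, 5, 4, 1, 2, 3],
  [0, 1, 2, 3, 4, 5, 6, 0, 1, 2, 3, 4, 5, 6, 0, 1, 2, 3, 4, 5, 6, 0, 1, 2, 3, 4, 5, 6, 0, 1, 2, 3, 4, 5, 6, 0, 1, 2, 3, 4, 5, 6, 0, 1, 2, 3, 4, 5, 6, 0, 1, 2, 3, 4, 5, 6, 0, 1, 2, 3, 4, 5, 6],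
  [1, 2, 0, 4, 3, 5, 6, 1, 0, 2, 3, 5, 4, 6, 1, 0, 2, 3, 4, 5, 6, 1, 2, 0, 4, 3, 5, 6, 1, 2, 0, 3, 4, 5, 6, 1, 2, 0, 3, 4, 5, 6, 1, 2, 0, 4, 3, 5, 6, 0, 1, 2, 3, 5, 4, 6, 1, 2, 0, 4, 3, 5, 6],
  [2, 0, 1, 3, 4, 5, 6, 0, 1, 2, 3, 5, 4, 6, 1, 0, 2, 3, 5, 4, 6, 2, 0, 1, 3, 4, 5, 6, 2, 0, 1, 4, 3, 5, 6, 2, 0, 1, 4, 3, 5, 6, 2, 0, 1, 4, 3, 5, 6, 1, 0, 2, 3, 4, 5, 6, 2, 0, 1, 4, 3, 5, 6],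
  [3, 0, 4, 2, 5, 1, 6, 2, 1, 3, 0, 5, 6, 4, 0, 2, 3, 1, 6, 4, 5, 3, 4, 0, 5, 1, 2, 6, 2, 3, 4, 1, 5, 0, 6, 3, 2, 4, 5, 0, 1, 6, 1, 3, 4, 2, 5, 0, 6, 2, 1, 3, 0, 6, 4, 5, 3, 4, 1, 5, 0, 2, 6],
  [4, 1, 3, 0, 5, 2, 6, 2, 0, 3, 1, 4, 6, 5, 1, 2, 3, 0, 6, 4, 5, 3, 4, 1, 5, 2, 0, 6, 0, 4, 3, 2, 5, 1, 6, 4, 0, 3, 5, 1, 2, 6, 2, 4, 3, 0, 5, 1, 6, 2, 1, 3, 0, 6, 5, 4, 3, 4, 2, 5, 1, 0, 6],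
  [4, 2, 3, 1, 5, 0, 6, 2, 1, 3, 0, 4, 6, 5, 1, 2, 3, 0, 6, 5, 4, 4, 3, 2, 5, 0, 1, 6, 1, 3, 4, 0, 5, 2, 6, 4, 1, 3, 5, 2, 0, 6, 0, 3, 4, 1, 5, 2, 6, 2, 0, 3, 1, 6, 4, 5, 4, 3, 0, 5, 2, 1, 6],
  [5, 3, 0, 1, 2, 4, 6, 3, 1, 0, 2, 6, 4, 5, 0, 3, 1, 2, 5, 6, 4, 5, 0, 3, 1, 2, 4, 6, 4, 2, 5, 0, 1, 3, 6, 2, 4, 5, 0, 1, 3, 6, 4, 5, 1, 0, 2, 3, 6, 3, 1, 0, 2, 5, 6, 4, 1, 5, 3, 0, 2, 4, 6],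
  [5, 3, 1, 2, 0, 4, 6, 3, 0, 1, 2, 6, 5, 4, 1, 3, 0, 2, 5, 6, 4, 5, 1, 4, 2, 0, 3, 6, 3, 0, 5, 1, 2, 4, 6, 0, 3, 5, 1, 2, 4, 6, 4, 5, 2, 1, 0, 3, 6, 3, 1, 0, 2, 4, 6, 5, 2, 5, 4, 1, 0, 3, 6],
  [5, 4, 2, 0, 1, 3, 6, 3, 1, 0, 2, 6, 5, 4, 1, 3, 0, 2, 4, 6, 5, 5, 2, 4, 0, 1, 3, 6, 3, 1, 5, 2, 0, 4, 6, 1, 4, 5, 2, 0, 3, 6, 3, 5, 0, 2, 1, 4, 6, 3, 0, 1, 2, 5, 6, 4, 0, 5, 3, 2, 1, 4, 6],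
  [5, 3, 0, 2, 1, 4, 6, 4, 6, 5, 2, 1, 3, 0, 6, 4, 5, 0, 3, 2, 1, 0, 4, 5, 2, 6, 3, 1, 4, 2, 5, 1, 0, 3, 6, 4, 5, 1, 2, 6, 3, 0, 4, 0, 5, 6, 2, 3, 1, 3, 6, 5, 1, 4, 0, 2, 1, 5, 4, 2, 0, 3, 6],
  [5, 4, 1, 0, 2, 3, 6, 4, 6, 5, 0, 2, 3, 1, 6, 3, 5, 1, 4, 0, 2, 0, 5, 4, 2, 6, 3, 1, 3, 0, 5, 2, 1, 4, 6, 4, 5, 0, 2, 6, 3, 1, 5, 1, 4, 6, 2, 3, 0, 4, 6, 5, 2, 3, 1, 0, 2, 5, 4, 0, 1, 3, 6],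
  [5, 4, 2, 1, 0, 3, 6, 3, 6, 5, 1, 0, 4, 2, 6, 4, 5, 2, 3, 1, 0, 1, 4, 5, 2, 6, 3, 0, 4, 1, 5, 0, 2, 3, 6, 5, 4, 0, 2, 6, 3, 1, 5, 0, 4, 6, 2, 3, 1, 4, 6, 5, 0, 3, 2, 1, 0, 5, 3, 1, 2, 4, 6],
  [0, 2, 1, 4, 3, 5, 6, 5, 6, 0, 4, 3, 1, 2, 6, 5, 1, 3, 2, 4, 0, 2, 6, 4, 3, 5, 0, 1, 1, 0, 2, 4, 3, 5, 6, 6, 4, 2, 3, 5, 1, 0, 5, 2, 6, 4, 3, 0, 1, 5, 6, 2, 4, 0, 3, 1, 2, 1, 0, 4, 3, 5, 6],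
  [1, 0, 2, 3, 4, 5, 6, 5, 6, 1, 3, 4, 2, 0, 6, 5, 2, 4, 0, 3, 1, 2, 6, 5, 3, 4, 0, 1, 2, 1, 0, 4, 3, 5, 6, 6, 4, 2, 3, 5, 0, 1, 4, 2, 6, 5, 3, 1, 0, 5, 6, 0, 4, 1, 3, 2, 0, 2, 1, 3, 4, 5, 6],
  [2, 1, 0, 4, 3, 5, 6, 5, 6, 2, 4, 3, 0, 1, 6, 5, 0, 4, 1, 3, 2, 2, 6, 4, 3, 5, 1, 0, 0, 2, 1, 3, 4, 5, 6, 6, 5, 2, 3, 4, 0, 1, 4, 2, 6, 5, 3, 0, 1, 5, 6, 1, 3, 2, 4, 0, 1, 0, 2, 3, 4, 5, 6],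
  [3, 0, 4, 1, 5, 2, 6, 1, 6, 3, 5, 2, 0, 4, 6, 2, 4, 5, 1, 0, 3, 3, 5, 6, 0, 4, 2, 1, 2, 3, 4, 0, 5, 1, 6, 5, 6, 3, 1, 4, 2, 0, 6, 3, 4, 5, 0, 2, 1, 0, 6, 4, 5, 2, 1, 3, 4, 3, 1, 5, 2, 0, 6],
  [3, 1, 4, 2, 5, 0, 6, 2, 6, 4, 5, 0, 1, 3, 6, 0, 4, 5, 2, 1, 3, 3, 4, 6, 0, 5, 2, 1, 0, 4, 3, 1, 5, 2, 6, 5, 6, 3, 0, 4, 2, 1, 6, 3, 5, 4, 1, 2, 0, 1, 6, 3, 5, 0, 2, 4, 3, 4, 2, 5, 0, 1, 6],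
  [4, 2, 3, 0, 5, 1, 6, 0, 6, 4, 5, 1, 2, 3, 6, 1, 3, 5, 0, 2, 4, 3, 5, 6, 1, 4, 2, 0, 1, 4, 3, 2, 5, 0, 6, 4, 6, 3, 0, 5, 2, 1, 6, 3, 5, 4, 0, 2, 1, 2, 6, 4, 5, 1, 0, 3, 4, 3, 0, 5, 1, 2, 6],
  [0, 4, 5, 6, 2, 3, 1, 3, 6, 5, 2, 0, 4, 1, 6, 3, 5, 0, 4, 1, 2, 5, 0, 3, 2, 1, 4, 6, 5, 4, 0, 6, 2, 3, 1, 2, 4, 5, 1, 0, 3, 6, 3, 5, 1, 2, 0, 4, 6, 4, 6, 5, 1, 3, 2, 0, 4, 1, 5, 2, 6, 3, 0],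
  [1, 5, 4, 6, 2, 3, 0, 3, 6, 5, 0, 1, 4, 2, 6, 4, 5, 1, 3, 2, 0, 5, 1, 3, 0, 2, 4, 6, 4, 5, 0, 6, 2, 3, 1, 0, 3, 5, 2, 1, 4, 6, 4, 5, 2, 0, 1, 3, 6, 3, 6, 5, 2, 4, 0, 1, 4, 0, 5, 2, 6, 3, 1],
  [0, 5, 4, 6, 2, 3, 1, 4, 6, 5, 1, 2, 3, 0, 6, 3, 5, 2, 4, 0, 1, 5, 2, 4, 1, 0, 3, 6, 5, 4, 1, 6, 2, 3, 0, 1, 3, 5, 0, 2, 4, 6, 3, 5, 0, 1, 2, 4, 6, 3, 6, 5, 0, 4, 1, 2, 5, 0, 4, 2, 6, 3, 1],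
  [2, 5, 6, 4, 3, 0, 1, 5, 6, 1, 4, 3, 0, 2, 6, 5, 2, 3, 1, 4, 0, 0, 2, 1, 4, 3, 5, 6, 4, 6, 2, 5, 3, 0, 1, 1, 0, 2, 4, 3, 5, 6, 2, 1, 0, 4, 3, 5, 6, 5, 6, 0, 3, 2, 4, 1, 6, 2, 4, 3, 5, 1, 0],
  [2, 4, 6, 5, 3, 1, 0, 5, 6, 2, 3, 4, 1, 0, 6, 5, 0, 3, 2, 4, 1, 1, 0, 2, 3, 4, 5, 6, 5, 6, 2, 4, 3, 0, 1, 2, 1, 0, 4, 3, 5, 6, 0, 2, 1, 3, 4, 5, 6, 5, 6, 1, 4, 0, 3, 2, 6, 2, 4, 3, 5, 0, 1],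
  [2, 4, 6, 5, 3, 0, 1, 5, 6, 0, 3, 4, 2, 1, 6, 5, 1, 4, 0, 3, 2, 2, 1, 0, 4, 3, 5, 6, 4, 6, 2, 5, 3, 1, 0, 0, 2, 1, 3, 4, 5, 6, 1, 0, 2, 3, 4, 5, 6, 5, 6, 2, 3, 1, 4, 0, 6, 2, 5, 3, 4, 0, 1],
  [3, 6, 4, 5, 0, 2, 1, 0, 6, 3, 5, 2, 1, 4, 6, 1, 4, 5, 2, 0, 3, 3, 4, 0, 5, 2, 1, 6, 6, 5, 3, 4, 0, 2, 1, 3, 2, 4, 5, 1, 0, 6, 1, 4, 3, 0, 5, 2, 6, 2, 6, 3, 5, 0, 1, 4, 5, 3, 6, 1, 4, 2, 0],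
  [3, 6, 5, 4, 1, 2, 0, 1, 6, 4, 5, 0, 2, 3, 6, 2, 3, 5, 0, 1, 4, 4, 3, 1, 5, 0, 2, 6, 6, 4, 3, 5, 0, 2, 1, 4, 0, 3, 5, 2, 1, 6, 2, 4, 3, 1, 5, 0, 6, 0, 6, 3, 5, 1, 2, 4, 5, 3, 6, 0, 4, 2, 1],
  [3, 6, 5, 4, 0, 2, 1, 2, 6, 3, 5, 1, 0, 4, 6, 0, 3, 5, 1, 2, 4, 4, 3, 2, 5, 1, 0, 6, 6, 5, 3, 4, 1, 2, 0, 3, 1, 4, 5, 0, 2, 6, 0, 3, 4, 2, 5, 1, 6, 1, 6, 4, 5, 2, 0, 3, 4, 3, 6, 0, 5, 2, 1]]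

end Cfsg.Lib.Chev.Ree3
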