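import Cfsg.Agent.Chev.Ree3.Steps
import Cfsg.Agent.Chev.Ree.Main

/-!
The smallest Ree group acting on nine block systems.
-/

set_option autoImplicit false

open Cfsg.Lie

namespace Cfsg.Lib.Chev.Ree3

open Cfsg.Lib.Chev.Ree

/-- the line representatives -/
def lineVec (x : Fin 28) : chevG2.Idx → ZMod 3 := decode (lineCode.getD x 0)

/-- block of a line -/
def block (i : Fin 9) (x : Fin 28) : Fin 7 := ⟨tab blockTab i x, block_ok.1 i x⟩

/-- `g` moves partition `i` to partition `j`. -/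
def Rel (g : GL chevG2.Idx (ZMod 3)) (i j : Fin 9) : Prop :=
  ∃ p : Fin 28 → Fin 28, (∀ x, Matrix.vecMul (lineVec x) (g : Matrix chevG2.Idx chevG2.Idx (ZMod 3)) = lineVec (p x) ∨
      Matrix.vecMul (lineVec x) (g : Matrix chevG2.Idx chevG2.Idx (ZMod 3)) = -lineVec (p x)) ∧
    ∃ β : Fin 7 → Fin 7, ∀ x, block j (p x) = β (block i x)

theorem line_eq {x y : Fin 28} (h : lineVec x = lineVec y ∨ lineVec x = -lineVec y) : x = y := by
  by_contra hne
  obtain ⟨⟨i, hi⟩, ⟨k, hk⟩⟩ := lines_distinct x y hne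
  rcases h with h | h
  · exact hi (congrFun h i)
  · exact hk (congrFun h k)

theorem Rel.one (i : Fin 9) : Rel 1 i i :=
  ⟨id, fun x => Or.inl (by simp), id, fun _ => rfl⟩

theorem Rel.mul {g h : GL chevG2.Idx (ZMod 3)} {i j k : Fin 9} (h1 : Rel g i j) (h2 : Rel h j k) :
    Rel (g * h) i k := by
  obtain ⟨p, hp, β, hβ⟩ := h1
  obtain ⟨q, hq, γ, hγ⟩ := h2
  refine ⟨q ∘ p, fun x => ?_, γ ∘ β, fun x => by simp [hβ, hγ]⟩
  rw [Units.val_mul, ← Matrix.vecMul_vecMul]
  rcases hp x with h | h <;> rw [h] <;> rcases hq (p x) with h' | h' <;>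
    simp [Matrix.neg_vecMul, h']

theorem Rel.unique {g : GL chevG2.Idx (ZMod 3)} {i j k : Fin 9} (h1 : Rel g i j) (h2 : Rel g i k) : j = k := by
  obtain ⟨p, hp, β, hβ⟩ := h1
  obtain ⟨q, hq, γ, hγ⟩ := h2
  have hpq : p = q := funext fun x => line_eq (by
    rcases hp x with h | h <;> rcases hq x with h' | h' <;> rw [h] at h'
    · exact Or.inl h'
    · exact Or.inr h'
    · exact Or.inr (by rw [← h', neg_neg])
    · exact Or.inl (neg_injective h'))
  subst hpq
  have hpinj : Function.Injective p := by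
    intro x y hxy
    apply line_eq
    have hinj : Function.Injective fun v => Matrix.vecMul v (g : Matrix chevG2.Idx chevG2.Idx (ZMod 3)) :=
      fun a b hab => by
        have := congrArg (fun v => Matrix.vecMul v ((g⁻¹ : GL chevG2.Idx (ZMod 3)) : Matrix chevG2.Idx chevG2.Idx (ZMod 3))) hab
        simpa [Matrix.vecMul_vecMul, ← Units.val_mul] using this
    rcases hp x with h | h <;> rcases hp y with h' | h' <;> rw [← hxy] at h'
    · exact Or.inl (hinj (h.trans h'.symm))
    · exact Or.inr (hinj (by simp [Matrix.neg_vecMul, h, h']))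
    · exact Or.inr (hinj (by simp [Matrix.neg_vecMul, h, h']))
    · exact Or.inl (hinj (h.trans h'.symm))
  have hsurj : Function.Surjective β := by
    intro b
    obtain ⟨y, hy⟩ := block_ok.2.1 j b
    obtain ⟨x, rfl⟩ := Finite.injective_iff_surjective.1 hpinj y
    exact ⟨block i x, by rw [← hβ]; exact Fin.ext hy⟩
  have hinj := Finite.injective_iff_surjective.2 hsurj
  by_contra hne
  obtain ⟨y, z, hyz, hne'⟩ := block_ok.2.2 j k hne
  obtain ⟨x, rfl⟩ := Finite.injective_iff_surjective.1 hpinj y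
  obtain ⟨w, rfl⟩ := Finite.injective_iff_surjective.1 hpinj z
  have h1 : block j (p x) = block j (p w) := Fin.ext hyz
  rw [hβ, hβ] at h1
  exact hne' (congrArg Fin.val (((hγ x).trans (congrArg γ (hinj h1))).trans (hγ w).symm))

/-- the permutation of partitions tabulated for a generator -/
def part (s : Bool) (t u v : ZMod 3) (i : Fin 9) : Fin 9 :=
  ⟨tab partTab (gidx s t.val u.val v.val % 54) i, (part_ok ⟨_, Nat.mod_lt _ (by norm_num)⟩).1 i⟩

theorem gidx_lt : ∀ (s : Bool) (t u v : ZMod 3), gidx s t.val u.val v.val < 54 := by decide +kernel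

theorem rel_gen (s : Bool) (t u v : ZMod 3) (g : GL chevG2.Idx (ZMod 3))
    (hg : (g : Matrix chevG2.Idx chevG2.Idx (ZMod 3)) =
      chevG2.wordMat (ZMod 3) (if s then reeWordV 1 t u v else reeWordU 1 t u v)) (i : Fin 9) :
    Rel g i (part s t u v i) := by
  have hk := gidx_lt s t u v
  set k := gidx s t.val u.val v.val with hkdef
  have hline : ∀ x : Fin 28, lineOK s t.val u.val v.val x = true := fun x => by
    cases s
    · exact lineOK_false ⟨_, t.val_lt⟩ ⟨_, u.val_lt⟩ ⟨_, v.val_lt⟩ x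
    · exact lineOK_true ⟨_, t.val_lt⟩ ⟨_, u.val_lt⟩ ⟨_, v.val_lt⟩ x
  simp only [lineOK, Bool.and_eq_true, Bool.or_eq_true, decide_eq_true_eq, beq_iff_eq, ← hkdef] at hline
  refine ⟨fun x => ⟨tab lineTab k x, (hline x).1⟩, fun x => ?_,
    fun b => ⟨tab betaTab k (7 * i + b), (part_ok ⟨k, hk⟩).2.1 i b⟩, fun x => ?_⟩
  · have hw : (g : Matrix chevG2.Idx chevG2.Idx (ZMod 3)) = chevG2.wordMat (ZMod 3)
        ((codeWord s t.val u.val v.val).map fun p => (p.1, (p.2 : ZMod 3))) := by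
      rw [hg]; cases s
      · rw [(reeWord_code t u v).1]; rfl
      · rw [(reeWord_code t u v).2]; rfl
    rw [hw, lineVec, vecMul_run _ (codeWord_ok s _ _ _)]
    rcases (hline x).2 with h | h
    · exact Or.inl (by rw [h]; rfl)
    · refine Or.inr (funext fun j => ?_)
      rw [h, lineNeg_spec ⟨_, (hline x).1⟩ j]
      rfl
  · refine Fin.ext ?_
    show tab blockTab (tab partTab (k % 54) i) (tab lineTab k x) = _
    rw [Nat.mod_eq_of_lt hk]
    exact (part_ok ⟨k, hk⟩).2.2 i x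

theorem val_uu {K : Type*} [Field K] [Fintype K] (X : Ree K) (t u v : K) :
    (X.uu t u v : Matrix chevG2.Idx chevG2.Idx K) = chevG2.wordMat K (reeWordU X.e t u v) := by
  unfold Ree.uu
  exact Ree.val_w6 _ _ _ _ _ _
theorem val_tau_uu {K : Type*} [Field K] [Fintype K] (X : Ree K) (t u v : K) :
    (Ree.tau K (X.uu t u v) : Matrix chevG2.Idx chevG2.Idx K) = chevG2.wordMat K (reeWordV X.e t u v) := by
  unfold Ree.uu
  refine (Ree.val_tau_w6 _ _ _ _ _ _).trans (congrArg _ ?_)
  have hneg : [chevG2.negIdx.getD 7 0, chevG2.negIdx.getD 6 0, chevG2.negIdx.getD 8 0, chevG2.negIdx.getD 9 0,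
      chevG2.negIdx.getD 10 0, chevG2.negIdx.getD 11 0] = [4, 5, 3, 2, 1, 0] := by decide +kernel
  simp only [List.cons.injEq, and_true] at hneg
  obtain ⟨n7, n6, n8, n9, n10, n11⟩ := hneg
  simp only [reeWordV, reeWordU, g2a, g2b, g2ab, g2aab, g2aaab, g2aaabb, ChevalleyDatum.negWord, List.map_cons,
    List.map_nil, n7, n6, n8, n9, n10, n11]

variable {X : Ree (ZMod 3)} (he : X.e = 1)
include he

theorem G1_eq : X.G1 = twistedG2 (ZMod 3) 1 := by rw [Ree.G1, he]

theorem exists_gen (s : Bool) (t u v : ZMod 3) : ∃ g : twistedG2 (ZMod 3) 1,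
    ((g : GL chevG2.Idx (ZMod 3)) : Matrix chevG2.Idx chevG2.Idx (ZMod 3)) =
      chevG2.wordMat (ZMod 3) (if s then reeWordV 1 t u v else reeWordU 1 t u v) := by
  have key : ∀ g : GL chevG2.Idx (ZMod 3), (∃ w ∈ g2Words (ZMod 3) X.e,
      (g : Matrix chevG2.Idx chevG2.Idx (ZMod 3)) = chevG2.wordMat (ZMod 3) w) → g ∈ twistedG2 (ZMod 3) 1 :=
    fun g hg => G1_eq he ▸ Subgroup.subset_closure hg
  cases s
  · exact ⟨⟨X.uu t u v, key _ ((X.G1_gens _).2 ⟨t, u, v, Or.inl rfl⟩)⟩,
      (val_uu X t u v).trans (by rw [he, if_neg Bool.false_ne_true])⟩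
  · exact ⟨⟨Ree.tau (ZMod 3) (X.uu t u v), key _ ((X.G1_gens _).2 ⟨t, u, v, Or.inr rfl⟩)⟩,
      (val_tau_uu X t u v).trans (by rw [he, if_pos rfl])⟩

theorem exists_rel : ∀ g ∈ twistedG2 (ZMod 3) 1, ∀ i, ∃ j, Rel g i j := by
  intro g hg
  rw [twistedG2, ChevalleyDatum.genSubgroup, ← Subgroup.mem_toSubmonoid, Subgroup.closure_toSubmonoid_of_finite] at hg
  induction hg using Submonoid.closure_induction with
  | mem g hg =>
    obtain ⟨w, ⟨t, u, v, h⟩, hgw⟩ := hg
    intro i
    rcases h with rfl | rfl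
    · exact ⟨_, rel_gen false t u v g hgw i⟩
    · exact ⟨_, rel_gen true t u v g hgw i⟩
  | one => exact fun i => ⟨i, Rel.one i⟩
  | mul a b _ _ iha ihb =>
    intro i
    obtain ⟨j, hj⟩ := iha i
    obtain ⟨k, hk⟩ := ihb j
    exact ⟨k, hj.mul hk⟩

/-- the action on the nine partitions -/
noncomputable def act (g : twistedG2 (ZMod 3) 1) (i : Fin 9) : Fin 9 :=
  (exists_rel he _ (inv_mem g.2) i).choose

theorem act_spec (g : twistedG2 (ZMod 3) 1) (i : Fin 9) : Rel (g : GL chevG2.Idx (ZMod 3))⁻¹ i (act he g i) :=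
  (exists_rel he _ (inv_mem g.2) i).choose_spec

/-- the permutation representation -/
noncomputable def perm : twistedG2 (ZMod 3) 1 →* Equiv.Perm (Fin 9) :=
  letI : MulAction (twistedG2 (ZMod 3) 1) (Fin 9) :=
    { smul := act he
      one_smul := fun i => Rel.unique (act_spec he 1 i) (by rw [OneMemClass.coe_one, inv_one]; exact Rel.one i)
      mul_smul := fun g h i => Rel.unique (act_spec he (g * h) i) (by
        rw [Subgroup.coe_mul, mul_inv_rev]; exact (act_spec he h i).mul (act_spec he g _)) }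
  MulAction.toPermHom _ _

theorem perm_gen (s : Bool) (t u v : ZMod 3) : ∃ g, ∀ i, perm he g (part s t u v i) = i := by
  obtain ⟨g, hg⟩ := exists_gen he s t u v
  refine ⟨g, fun i => ?_⟩
  show act he g _ = i
  refine Rel.unique ((rel_gen s t u v g hg i).mul (act_spec he g _)) ?_
  rw [mul_inv_cancel]
  exact Rel.one i

end Cfsg.Lib.Chev.Ree3
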