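import Mathlib

/-!
The projective line over a field with eight elements, labelled by `Fin 9`.
-/

set_option autoImplicit false

open scoped MatrixGroups

namespace Cfsg.Lib.Chev.Ree3

/-- translation by the element with label `c` -/
def transPerm (c : ℕ) (i : Fin 9) : Fin 9 :=
  if h : i.val < 8 then ⟨((i.val ^^^ c) % 8), by omega⟩ else i

/-- inversion -/
def invPerm (i : Fin 9) : Fin 9 := [(8 : Fin 9), 1, 5, 6, 7, 2, 3, 4, 0].getD i.val 0

variable {L : Type*} [Field L] [Fintype L]

theorem charTwo (hL : Fintype.card L = 8) : CharP L 2 := by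
  obtain ⟨p, hp⟩ := CharP.exists L
  obtain ⟨n, hp', hn⟩ := FiniteField.card L p
  have : p = 2 := by
    have h : p ∣ 2 ^ 3 := by rw [show (2 : ℕ) ^ 3 = 8 by norm_num, ← hL, hn]; exact dvd_pow_self p n.pos.ne'
    exact (Nat.prime_dvd_prime_iff_eq hp' Nat.prime_two).1 (hp'.dvd_of_dvd_pow h)
  exact this ▸ hp

theorem exists_root (hL : Fintype.card L = 8) : ∃ a : L, a ^ 3 + a + 1 = 0 := by
  classical
  have := charTwo hL
  have h2 : (2 : L) = 0 := CharTwo.two_eq_zero
  obtain ⟨x, hx⟩ : ∃ x : L, x ∉ ({0, 1} : Finset L) := by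
    by_contra! h
    have := Finset.card_le_card (fun x (_ : x ∈ Finset.univ) => h x)
    rw [Finset.card_univ, hL] at this
    exact absurd (this.trans (Finset.card_le_two)) (by norm_num)
  simp only [Finset.mem_insert, Finset.mem_singleton, not_or] at hx
  have h7 : x ^ 7 = 1 := by have := FiniteField.pow_card_sub_one_eq_one x hx.1; rwa [hL] at this
  have hp : (x - 1) * ((x ^ 3 + x + 1) * (x ^ 3 + x ^ 2 + 1)) = 0 := by
    linear_combination h7 + (x ^ 4 - x ^ 3) * h2
  rcases mul_eq_zero.1 hp with h | h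
  · exact absurd (sub_eq_zero.1 h) hx.2
  rcases mul_eq_zero.1 h with h | h
  · exact ⟨x, h⟩
  · refine ⟨x⁻¹, ?_⟩
    have hx0 := hx.1
    have : x⁻¹ ^ 3 + x⁻¹ + 1 = x⁻¹ ^ 3 * (x ^ 3 + x ^ 2 + 1) := by field_simp; ring
    rw [this, h, mul_zero]

/-- the labelled field elements -/
def elt (a : L) (i : ℕ) : L :=
  (if i.testBit 0 then 1 else 0) + (if i.testBit 1 then a else 0) + (if i.testBit 2 then a ^ 2 else 0)

theorem elt_mul_inv [CharP L 2] {a : L} (ha : a ^ 3 + a + 1 = 0) :
    ∀ i < 8, i ≠ 0 → elt a i * elt a ([0, 1, 5, 6, 7, 2, 3, 4].getD i 0) = 1 := by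
  have h2 : (2 : L) = 0 := CharTwo.two_eq_zero
  intro i hi hi0
  interval_cases i
  all_goals simp [elt, Nat.testBit]
  all_goals grind

theorem elt_xor [CharP L 2] {a : L} : ∀ i < 8, ∀ c < 8, elt a (i ^^^ c) = elt a i + elt a c := by
  have h2 : (2 : L) = 0 := CharTwo.two_eq_zero
  intro i hi c hc
  interval_cases i <;> interval_cases c <;> simp [elt, Nat.testBit] <;> grind

theorem elt_injective [CharP L 2] {a : L} (ha : a ^ 3 + a + 1 = 0) :
    ∀ i < 8, ∀ j < 8, elt a i = elt a j → i = j := by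
  intro i hi j hj h
  by_contra hne
  have h0 : elt a (i ^^^ j) = 0 := by rw [elt_xor i hi j hj, h, CharTwo.add_self_eq_zero]
  have hij : ∀ i < 8, ∀ j < 8, i ≠ j → i ^^^ j ≠ 0 ∧ i ^^^ j < 8 := by decide
  obtain ⟨h1, h2⟩ := hij i hi j hj hne
  have := elt_mul_inv ha _ h2 h1
  rw [h0, zero_mul] at this
  exact zero_ne_one this

/-- cross product -/
def cross (v w : Fin 2 → L) : L := v 0 * w 1 - v 1 * w 0

theorem cross_mulVec (g : SL(2, L)) (v w : Fin 2 → L) :
    cross ((g : Matrix (Fin 2) (Fin 2) L).mulVec v) ((g : Matrix (Fin 2) (Fin 2) L).mulVec w) = cross v w := by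
  have hd := g.2
  rw [Matrix.det_fin_two] at hd
  simp only [cross, Matrix.mulVec, dotProduct, Fin.sum_univ_two]
  linear_combination (v 0 * w 1 - v 1 * w 0) * hd

theorem smul_of_cross {v w : Fin 2 → L} (hw : w ≠ 0) (h : cross v w = 0) : ∃ s : L, v = s • w := by
  by_cases h1 : w 1 = 0
  · have h0 : w 0 ≠ 0 := fun h0 => hw (funext fun i => by fin_cases i <;> simp [h0, h1])
    refine ⟨v 0 / w 0, funext fun i => ?_⟩
    have hv : v 1 = 0 := by
      simp only [cross, h1, mul_zero, zero_sub, neg_eq_zero, mul_eq_zero] at h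
      exact h.resolve_right h0
    fin_cases i <;> simp [h0, h1, hv]
  · refine ⟨v 1 / w 1, funext fun i => ?_⟩
    fin_cases i
    · simp only [cross] at h
      simp only [Fin.zero_eta, Pi.smul_apply, smul_eq_mul]
      field_simp
      linear_combination h
    · simp [h1]

/-- representatives of the nine points -/
def point (a : L) (i : Fin 9) : Fin 2 → L := if i.val < 8 then ![elt a i.val, 1] else ![1, 0]

theorem point_ne (a : L) (i : Fin 9) : point a i ≠ 0 := by
  intro h
  unfold point at h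
  split_ifs at h
  · simpa using congrFun h 1
  · simpa using congrFun h 0

theorem point_unique [CharP L 2] {a : L} (ha : a ^ 3 + a + 1 = 0) (i j : Fin 9)
    (h : cross (point a i) (point a j) = 0) : i = j := by
  unfold point at h
  apply Fin.ext
  split_ifs at h with hi hj hj
  · exact elt_injective ha _ hi _ hj (by simpa [cross, sub_eq_zero] using h)
  · simp [cross] at h
  · simp [cross] at h
  · omega

theorem point_exists [CharP L 2] {a : L} (ha : a ^ 3 + a + 1 = 0) (hL : Fintype.card L = 8) (w : Fin 2 → L) :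
    ∃ j, cross w (point a j) = 0 := by
  by_cases h1 : w 1 = 0
  · exact ⟨8, by simp [point, cross, h1]⟩
  · have hb : Function.Bijective fun i : Fin 8 => elt a i.val := by
      rw [Fintype.bijective_iff_injective_and_card, Fintype.card_fin, hL]
      exact ⟨fun i j h => Fin.ext (elt_injective ha _ i.2 _ j.2 h), rfl⟩
    obtain ⟨i, hi⟩ := hb.2 (w 0 / w 1)
    refine ⟨⟨i.val, by omega⟩, ?_⟩
    simp only at hi
    simp [point, cross, hi, mul_div_cancel₀ _ h1]

/-- `g` maps point `i` to point `j` -/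
def Maps (a : L) (g : SL(2, L)) (i j : Fin 9) : Prop :=
  cross ((g : Matrix (Fin 2) (Fin 2) L).mulVec (point a i)) (point a j) = 0

theorem exists_lineHom [CharP L 2] {a : L} (ha : a ^ 3 + a + 1 = 0) (hL : Fintype.card L = 8) :
    ∃ ψ : SL(2, L) →* Equiv.Perm (Fin 9), (∀ g, ψ g 8 = 8 → ψ g 0 = 0 → ψ g 1 = 1 → g = 1) ∧
      ∀ g i j, Maps a g i j → ψ g i = j := by
  choose f hf using fun (g : SL(2, L)) (i : Fin 9) =>
    point_exists ha hL ((g : Matrix (Fin 2) (Fin 2) L).mulVec (point a i))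
  have huniq : ∀ g i j, Maps a g i j → f g i = j := by
    intro g i j h
    have hne : (g : Matrix (Fin 2) (Fin 2) L).mulVec (point a i) ≠ 0 := by
      intro h0
      apply point_ne a i
      have h10 := cross_mulVec g (point a i) ![1, 0]
      have h01 := cross_mulVec g (point a i) ![0, 1]
      rw [h0] at h10 h01
      simp [cross] at h10 h01
      exact funext fun k => by fin_cases k <;> simp [h01, h10]
    obtain ⟨s, hs⟩ := smul_of_cross (point_ne a (f g i)) (hf g i)
    have hs0 : s ≠ 0 := fun h0 => hne (by rw [hs, h0, zero_smul])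
    refine point_unique ha _ _ ?_
    have h' := h
    unfold Maps at h'
    rw [hs] at h'
    simp only [cross, Pi.smul_apply, smul_eq_mul] at h' ⊢
    exact (mul_eq_zero.1 (show s * (point a (f g i) 0 * point a j 1 - point a (f g i) 1 * point a j 0) = 0 by
      linear_combination h')).resolve_left hs0
  let _ : MulAction SL(2, L) (Fin 9) :=
    { smul := f
      one_smul := fun i => huniq 1 i i (by
        show cross (Matrix.mulVec ((1 : SL(2, L)) : Matrix (Fin 2) (Fin 2) L) (point a i)) _ = 0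
        rw [Matrix.SpecialLinearGroup.coe_one, Matrix.one_mulVec, cross]; ring)
      mul_smul := fun g h i => huniq (g * h) i _ (by
        unfold Maps
        rw [Matrix.SpecialLinearGroup.coe_mul, ← Matrix.mulVec_mulVec]
        obtain ⟨s, hs⟩ := smul_of_cross (point_ne a (f h i)) (hf h i)
        rw [hs, Matrix.mulVec_smul]
        have h2 := hf g (f h i)
        show cross _ (point a (f g (f h i))) = 0
        simp only [cross, Pi.smul_apply, smul_eq_mul] at h2 ⊢
        linear_combination s * h2) }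
  refine ⟨MulAction.toPermHom _ _, fun g g8 g0 g1 => ?_, fun g i j h => huniq g i j h⟩
  have hfix : ∀ i, f g i = i → Maps a g i i := fun i h1 => by
    have h2 := hf g i
    rwa [h1] at h2
  have h8 := hfix 8 g8
  have h0 := hfix 0 g0
  have h1 := hfix 1 g1
  have he0 : elt a 0 = 0 := by simp [elt]
  have he1 : elt a 1 = 1 := by simp [elt, Nat.testBit_succ]
  simp [Maps, point, cross, he0, he1, Matrix.mulVec, dotProduct, Fin.sum_univ_two] at h8 h0 h1
  have hd := g.2
  rw [Matrix.det_fin_two] at hd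
  have h2 : (2 : L) = 0 := CharTwo.two_eq_zero
  have hsq : ((g : Matrix (Fin 2) (Fin 2) L) 0 0 - 1) ^ 2 = 0 := by grind
  have hone : (g : Matrix (Fin 2) (Fin 2) L) 0 0 = 1 := sub_eq_zero.1 (pow_eq_zero_iff two_ne_zero |>.1 hsq)
  ext i j
  fin_cases i <;> fin_cases j <;> simp <;> grind

theorem gens_of_SL2 (H : Subgroup SL(2, L)) (hu : ∀ x : L, ∀ g : SL(2, L),
      (g : Matrix (Fin 2) (Fin 2) L) = !![1, x; 0, 1] → g ∈ H)
    (w : SL(2, L)) (hw : (w : Matrix (Fin 2) (Fin 2) L) = !![0, 1; 1, 0]) (hwH : w ∈ H) (h2 : (2 : L) = 0) :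
    ∀ g, g ∈ H := by
  let u : L → SL(2, L) := fun x => ⟨!![1, x; 0, 1], by simp [Matrix.det_fin_two_of]⟩
  let l : L → SL(2, L) := fun x => ⟨!![1, 0; x, 1], by simp [Matrix.det_fin_two_of]⟩
  have huH : ∀ x, u x ∈ H := fun x => hu x _ rfl
  have hlH : ∀ x, l x ∈ H := fun x => by
    have he : l x = w * u x * w := Subtype.ext (by
      rw [Matrix.SpecialLinearGroup.coe_mul, Matrix.SpecialLinearGroup.coe_mul, hw]
      ext i j; fin_cases i <;> fin_cases j <;> simp [u, l, Matrix.mul_apply, Fin.sum_univ_two])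
    exact he ▸ mul_mem (mul_mem hwH (huH x)) hwH
  have hgen : ∀ g : SL(2, L), (g : Matrix (Fin 2) (Fin 2) L) 1 0 ≠ 0 → g ∈ H := by
    intro g hc
    set A := (g : Matrix (Fin 2) (Fin 2) L)
    have hd : A 0 0 * A 1 1 - A 0 1 * A 1 0 = 1 := by rw [← Matrix.det_fin_two]; exact g.2
    have he : g = u ((A 0 0 - 1) / A 1 0) * l (A 1 0) * u ((A 1 1 - 1) / A 1 0) := Subtype.ext (by
      show A = !![1, (A 0 0 - 1) / A 1 0; 0, 1] * !![1, 0; A 1 0, 1] * !![1, (A 1 1 - 1) / A 1 0; 0, 1]
      ext i j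
      fin_cases i <;> fin_cases j <;>
        simp [Matrix.mul_apply, Fin.sum_univ_two] <;> field_simp <;>
        first | linear_combination hd | linear_combination -hd | ring)
    rw [he]
    exact mul_mem (mul_mem (huH _) (hlH _)) (huH _)
  intro g
  by_cases hc : (g : Matrix (Fin 2) (Fin 2) L) 1 0 = 0
  · have : g * l 1 ∈ H := hgen _ (by
      have hd := g.2
      rw [Matrix.det_fin_two, hc] at hd
      show ((g : Matrix (Fin 2) (Fin 2) L) * (!![1, 0; 1, 1] : Matrix (Fin 2) (Fin 2) L)) 1 0 ≠ 0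
      simp [Matrix.mul_apply, Fin.sum_univ_two, hc]
      intro h
      simp [h] at hd)
    exact (mul_mem_cancel_right (hlH 1)).1 this
  · exact hgen g hc

end Cfsg.Lib.Chev.Ree3
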