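import Cfsg.Agent.Chev.Ree3.Data

/-!
Evaluation of the generating words of the smallest Ree group on coded row vectors.
-/

set_option autoImplicit false

open Cfsg.Lie

namespace Cfsg.Lib.Chev.Ree3

/-- position of a coordinate -/
def pos : chevG2.Idx → ℕ := Sum.elim (fun a => a.val) (fun u => 2 + u.val)

theorem pos_lt : ∀ i : chevG2.Idx, pos i < 14 := by decide +kernel

/-- digit of a code -/
def digit (n i : ℕ) : ℕ := n / 3 ^ i % 3

/-- vector of a code -/
def decode (n : ℕ) : chevG2.Idx → ZMod 3 := fun i => ((digit n (pos i) : ℕ) : ZMod 3)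

/-- code of a list of digits -/
def encode : List ℕ → ℕ
  | [] => 0
  | d :: ds => d + 3 * encode ds

theorem digit_encode : ∀ (ds : List ℕ), (∀ d ∈ ds, d < 3) → ∀ j, digit (encode ds) j = ds.getD j 0 := by
  intro ds
  induction ds with
  | nil => intro _ j; simp [encode, digit]
  | cons d ds ih =>
    intro h j
    have hd : d < 3 := h d (List.mem_cons_self ..)
    rcases j with _ | j
    · simp [encode, digit, Nat.mod_eq_of_lt hd]
    · rw [List.getD_cons_succ, ← ih (fun x hx => h x (List.mem_cons_of_mem _ hx)) j, encode, digit, digit,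
        pow_succ', ← Nat.div_div_eq_div_mul, Nat.add_mul_div_left _ _ (by norm_num : 0 < 3), Nat.div_eq_of_lt hd, zero_add]

/-- the table of `x_r(c)` -/
def cols (r c : ℕ) : List (List (ℕ × ℕ)) := colTab.getD (3 * r + c) []

/-- one step -/
def step (r c n : ℕ) : ℕ :=
  encode ((cols r c).map fun col => ((col.map fun p => p.2 * digit n p.1).sum) % 3)

theorem cols_length : ∀ (r : Fin chevG2.nroots) (c : Fin 3), (cols r.val c.val).length = 14 := by decide +kernel

theorem cols_lt : ∀ (r : Fin chevG2.nroots) (c : Fin 3), ∀ j : chevG2.Idx,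
    ((cols r.val c.val).getD (pos j) []).all (fun p => decide (p.1 < 14)) = true := by decide +kernel

theorem cols_spec_pair : ∀ (r : Fin chevG2.nroots) (c : Fin 3) (k : chevG2.Idx × chevG2.Idx),
    chevG2.xMat (ZMod 3) r (c.val : ZMod 3) k.1 k.2 =
      ((((cols r.val c.val).getD (pos k.2) []).filter fun p => p.1 == pos k.1).map fun p => ((p.2 : ℕ) : ZMod 3)).sum := by
  decide +kernel

theorem pos_surj : ∀ k < 14, ∃ i : chevG2.Idx, pos i = k := by decide +kernel

theorem pos_inj : ∀ i j : chevG2.Idx, pos i = pos j → i = j := by decide +kernel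

theorem sum_col (n : ℕ) : ∀ (col : List (ℕ × ℕ)), (∀ p ∈ col, p.1 < 14) →
    ∑ i : chevG2.Idx, decode n i * ((col.filter fun p => p.1 == pos i).map fun p => ((p.2 : ℕ) : ZMod 3)).sum =
      (((col.map fun p => p.2 * digit n p.1).sum : ℕ) : ZMod 3) := by
  intro col
  induction col with
  | nil => simp
  | cons p col ih =>
    intro h
    obtain ⟨k, hk⟩ := pos_surj p.1 (h p (List.mem_cons_self ..))
    have hcons : ∀ i : chevG2.Idx,
        (((p :: col).filter fun q => q.1 == pos i).map fun q => ((q.2 : ℕ) : ZMod 3)).sum =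
          (if i = k then ((p.2 : ℕ) : ZMod 3) else 0) +
            ((col.filter fun q => q.1 == pos i).map fun q => ((q.2 : ℕ) : ZMod 3)).sum := by
      intro i
      rcases eq_or_ne i k with rfl | hne
      · simp [hk]
      · have : (p.1 == pos i) = false := by simpa [beq_eq_false_iff_ne, ← hk] using fun e => hne (pos_inj _ _ e).symm
        simp [List.filter_cons, this, hne]
    simp only [hcons, mul_add, Finset.sum_add_distrib, mul_ite, mul_zero, Finset.sum_ite_eq', Finset.mem_univ, if_true]
    rw [ih fun q hq => h q (List.mem_cons_of_mem _ hq), List.map_cons, List.sum_cons, decode, hk]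
    push_cast
    ring

theorem vecMul_step (r c : ℕ) (hr : r < chevG2.nroots) (hc : c < 3) (n : ℕ) :
    Matrix.vecMul (decode n) (chevG2.x (ZMod 3) r (c : ZMod 3)) = decode (step r c n) := by
  have hlen := cols_length ⟨r, hr⟩ ⟨c, hc⟩
  have hM := fun i j => cols_spec_pair ⟨r, hr⟩ ⟨c, hc⟩ (i, j)
  have hlt : ∀ j, ∀ p ∈ (cols r c).getD (pos j) [], p.1 < 14 := fun j p hp => by
    simpa using List.all_eq_true.1 (cols_lt ⟨r, hr⟩ ⟨c, hc⟩ j) p hp
  funext j
  rw [Matrix.vecMul, dotProduct, ChevalleyDatum.x, dif_pos hr]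
  rw [Finset.sum_congr rfl fun i _ => by rw [hM i j], sum_col n _ (hlt j)]
  have hj : pos j < (cols r c).length := hlen ▸ pos_lt j
  rw [decode, step, digit_encode _ (by simp [Nat.mod_lt])]
  simp only [List.getD_eq_getElem?_getD, List.getElem?_map, List.getElem?_eq_getElem hj, Option.map_some,
    Option.getD_some, ZMod.natCast_mod]

/-- evaluation of a word -/
def run : List (ℕ × ℕ) → ℕ → ℕ
  | [], n => n
  | p :: w, n => run w (step p.1 p.2 n)

theorem vecMul_run : ∀ (w : List (ℕ × ℕ)), (∀ p ∈ w, p.1 < chevG2.nroots ∧ p.2 < 3) → ∀ n,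
    Matrix.vecMul (decode n) (chevG2.wordMat (ZMod 3) (w.map fun p => (p.1, (p.2 : ZMod 3)))) =
      decode (run w n) := by
  intro w
  induction w with
  | nil => intro _ n; simp [ChevalleyDatum.wordMat, run]
  | cons p w ih =>
    intro h n
    have hp := h p (List.mem_cons_self ..)
    rw [List.map_cons, ChevalleyDatum.wordMat, List.map_cons, List.prod_cons, ← Matrix.vecMul_vecMul,
      vecMul_step _ _ hp.1 hp.2]
    exact ih (fun q hq => h q (List.mem_cons_of_mem _ hq)) _

/-- the coded word of the generator with the given side and parameters -/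
def codeWord (s : Bool) (t u v : ℕ) : List (ℕ × ℕ) :=
  if s then [(4, (3 - t % 3) % 3), (5, (3 - t % 3) % 3), (3, (3 - (t * t + u) % 3) % 3),
    (2, (3 - (t * t * t + v) % 3) % 3), (1, (3 - u % 3) % 3), (0, (3 - v % 3) % 3)]
  else [(7, t % 3), (6, t % 3), (8, (t * t + u) % 3), (9, (t * t * t + v) % 3), (10, u % 3), (11, v % 3)]

theorem reeWord_code : ∀ t u v : ZMod 3,
    reeWordU 1 t u v = (codeWord false t.val u.val v.val).map (fun p => (p.1, (p.2 : ZMod 3))) ∧
      reeWordV 1 t u v = (codeWord true t.val u.val v.val).map (fun p => (p.1, (p.2 : ZMod 3))) := by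
  decide +kernel

theorem codeWord_ok (s : Bool) (t u v : ℕ) : ∀ p ∈ codeWord s t u v, p.1 < chevG2.nroots ∧ p.2 < 3 := by
  intro p hp
  have hn : chevG2.nroots = 12 := rfl
  cases s <;> simp [codeWord] at hp <;> rcases hp with rfl | rfl | rfl | rfl | rfl | rfl <;>
    exact ⟨by simp [hn], Nat.mod_lt _ (by norm_num)⟩

/-- index of a generator -/
def gidx (s : Bool) (t u v : ℕ) : ℕ := (if s then 27 else 0) + 9 * t + 3 * u + v

/-- table lookup -/
def tab (T : List (List ℕ)) (a b : ℕ) : ℕ := (T.getD a []).getD b 0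

/-- a generator maps the lines as tabulated -/
def lineOK (s : Bool) (t u v x : ℕ) : Bool :=
  let m := run (codeWord s t u v) (lineCode.getD x 0)
  let y := tab lineTab (gidx s t u v) x
  decide (y < 28) && (m == lineCode.getD y 0 || m == lineNeg.getD y 0)

theorem lineOK_false : ∀ t u v : Fin 3, ∀ x : Fin 28, lineOK false t u v x = true := by decide +kernel

theorem lineOK_true : ∀ t u v : Fin 3, ∀ x : Fin 28, lineOK true t u v x = true := by decide +kernel

theorem lineNeg_spec : ∀ x : Fin 28, ∀ i : chevG2.Idx,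
    decode (lineNeg.getD x 0) i = - decode (lineCode.getD x 0) i := by decide +kernel

theorem lines_distinct : ∀ x y : Fin 28, x ≠ y →
    (∃ i : chevG2.Idx, decode (lineCode.getD x 0) i ≠ decode (lineCode.getD y 0) i) ∧
      (∃ i : chevG2.Idx, decode (lineCode.getD x 0) i ≠ - decode (lineCode.getD y 0) i) := by decide +kernel

theorem block_ok : (∀ i : Fin 9, ∀ x : Fin 28, tab blockTab i x < 7) ∧
    (∀ i : Fin 9, ∀ b : Fin 7, ∃ x : Fin 28, tab blockTab i x = b) ∧
    (∀ i j : Fin 9, i ≠ j → ∃ x y : Fin 28, tab blockTab i x = tab blockTab i y ∧ tab blockTab j x ≠ tab blockTab j y) := by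
  decide +kernel

theorem part_ok : ∀ g : Fin 54, (∀ i : Fin 9, tab partTab g i < 9) ∧ (∀ i : Fin 9, ∀ b : Fin 7, tab betaTab g (7 * i + b) < 7) ∧
    ∀ i : Fin 9, ∀ x : Fin 28, tab blockTab (tab partTab g i) (tab lineTab g x) =
      tab betaTab g (7 * i + tab blockTab i x) := by decide +kernel

end Cfsg.Lib.Chev.Ree3
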